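import Mathlib.NumberTheory.Padics.PadicVal.Basic
import Mathlib.Data.ZMod.Basic
import Mathlib.Tactic.Ring
import Cfsg.Agent.S2904

/-! Arithmetic of the tori of index two. -/

set_option autoImplicit false

namespace Cfsg.Agent.KnownB.HalfTorus

theorem padic_two_mul {k : ℕ} (hk : k ≠ 0) : padicValNat 2 (2 * k) = padicValNat 2 k + 1 := by
  haveI : Fact (Nat.Prime 2) := ⟨Nat.prime_two⟩
  rw [padicValNat.mul (by norm_num) hk, padicValNat_self, add_comm]

theorem gcd_dvd_half_iff {k Q : ℕ} (hk : k ≠ 0) (hQ : Q ≠ 0) :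
    Nat.gcd (2 * k) Q ∣ k ↔ padicValNat 2 Q < padicValNat 2 (2 * k) := by
  haveI : Fact (Nat.Prime 2) := ⟨Nat.prime_two⟩
  have h2k := padic_two_mul hk
  constructor
  · intro h
    by_contra hle
    push Not at hle
    have hd : 2 ^ padicValNat 2 (2 * k) ∣ Nat.gcd (2 * k) Q :=
      Nat.dvd_gcd pow_padicValNat_dvd ((pow_dvd_pow 2 hle).trans pow_padicValNat_dvd)
    have := (padicValNat_dvd_iff_le hk).mp (hd.trans h)
    omega
  · intro h
    have hg0 : Nat.gcd (2 * k) Q ≠ 0 := Nat.gcd_ne_zero_right hQ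
    rw [← Nat.factorization_le_iff_dvd hg0 hk, Finsupp.le_def]
    intro l
    by_cases hl : l = 2
    · subst hl
      have h1 : (Nat.gcd (2 * k) Q).factorization 2 ≤ Q.factorization 2 :=
        (Nat.factorization_le_iff_dvd hg0 hQ).mpr (Nat.gcd_dvd_right _ _) 2
      rw [Nat.factorization_def Q Nat.prime_two] at h1
      rw [Nat.factorization_def k Nat.prime_two]
      omega
    · have h1 : (Nat.gcd (2 * k) Q).factorization l ≤ (2 * k).factorization l :=
        (Nat.factorization_le_iff_dvd hg0 (by omega)).mpr (Nat.gcd_dvd_left _ _) l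
      rw [Nat.factorization_mul (by norm_num) hk, Finsupp.add_apply,
        Nat.prime_two.factorization, Finsupp.single_apply, if_neg (Ne.symm hl), zero_add] at h1
      exact h1

theorem dvd_div_iff {N S d : ℕ} (hN : 0 < N) (hd : d ∣ S * N) : N ∣ S * N / d ↔ d ∣ S := by
  rw [Nat.dvd_div_iff_mul_dvd hd]
  exact ⟨fun h => Nat.dvd_of_mul_dvd_mul_right hN h, fun h => Nat.mul_dvd_mul_right h N⟩

/-- The linear index. -/
def sLin (q k : ℕ) : ℕ := ∑ i ∈ Finset.range k, q ^ i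

theorem sLin_mul {q k : ℕ} (hq : 1 ≤ q) : sLin q k * (q - 1) = q ^ k - 1 := by
  obtain ⟨t, rfl⟩ : ∃ t, q = t + 1 := ⟨q - 1, by omega⟩
  have := geom_sum_mul_add t k
  rw [sLin, Nat.add_sub_cancel]
  omega

theorem sLin_cast {q k d : ℕ} (hd : d ∣ q - 1) (hq : 1 ≤ q) : (sLin q k : ZMod d) = k := by
  have h1 : (q : ZMod d) = 1 := by
    have := (ZMod.natCast_eq_zero_iff (q - 1) d).mpr hd
    rwa [Nat.cast_sub hq, sub_eq_zero, Nat.cast_one] at this
  simp [sLin, h1]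

theorem sLin_dvd_iff {q k d : ℕ} (hd : d ∣ q - 1) (hq : 1 ≤ q) : d ∣ sLin q k ↔ d ∣ k := by
  rw [← ZMod.natCast_eq_zero_iff, ← ZMod.natCast_eq_zero_iff, sLin_cast hd hq]

/-- The unitary index: `(q + 1) S = q ^ k - (-1) ^ k`. -/
theorem exists_sUni (q k : ℕ) (hq : 1 ≤ q) : ∃ S : ℕ,
    S * (q + 1) = (if Even k then q ^ k - 1 else q ^ k + 1) ∧ ∀ d, d ∣ q + 1 → (d ∣ S ↔ d ∣ k) := by
  set T : ℤ := ∑ i ∈ Finset.range k, (q : ℤ) ^ i * (-1) ^ (k - 1 - i) with hTdef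
  have hT : T * ((q : ℤ) + 1) = (q : ℤ) ^ k - (-1) ^ k := by
    have h := geom_sum₂_mul (q : ℤ) (-1) k
    rwa [sub_neg_eq_add] at h
  have hq1 : 1 ≤ q ^ k := Nat.one_le_pow _ _ hq
  have hval : ((if Even k then q ^ k - 1 else q ^ k + 1 : ℕ) : ℤ) = (q : ℤ) ^ k - (-1) ^ k := by
    split_ifs with h
    · rw [h.neg_one_pow, Nat.cast_sub hq1]; push_cast; ring
    · rw [(Nat.not_even_iff_odd.mp h).neg_one_pow]; push_cast; ring
  have hT0 : 0 ≤ T := by
    refine nonneg_of_mul_nonneg_left (b := (q : ℤ) + 1) ?_ (by positivity)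
    rw [hT, ← hval]
    positivity
  obtain ⟨S, hS⟩ : ∃ S : ℕ, T = S := ⟨T.toNat, (Int.toNat_of_nonneg hT0).symm⟩
  have hSv : ((S * (q + 1) : ℕ) : ℤ) = ((if Even k then q ^ k - 1 else q ^ k + 1 : ℕ) : ℤ) := by
    rw [hval, ← hT, hS]; push_cast; ring
  refine ⟨S, Nat.cast_injective hSv, ?_⟩
  intro d hd
  rw [← ZMod.natCast_eq_zero_iff, ← ZMod.natCast_eq_zero_iff]
  have h1 : (q : ZMod d) = -1 := by
    have := (ZMod.natCast_eq_zero_iff (q + 1) d).mpr hd
    rwa [Nat.cast_add, Nat.cast_one, add_eq_zero_iff_eq_neg] at this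
  have hc : (S : ZMod d) = (k : ZMod d) * (-1) ^ (k - 1) := by
    have e := congrArg (fun x : ℤ => (x : ZMod d)) hS.symm
    simp only [Int.cast_natCast] at e
    rw [e, hTdef]
    push_cast
    rw [h1, Finset.sum_congr rfl (g := fun _ => (-1 : ZMod d) ^ (k - 1)) fun i hi => by
      rw [← pow_add]; congr 1; have := Finset.mem_range.mp hi; omega, Finset.sum_const, Finset.card_range,
      nsmul_eq_mul]
  rw [hc, (isUnit_neg_one.pow _).mul_left_eq_zero]

theorem pow_sub_one_dvd_gcd {r q a b : ℕ} (ha : r ∣ q ^ a - 1) (hb : r ∣ q ^ b - 1) :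
    r ∣ q ^ Nat.gcd a b - 1 := by
  rw [← Nat.pow_sub_one_gcd_pow_sub_one]
  exact Nat.dvd_gcd ha hb

/-- The prime attached to the unitary torus. -/
theorem exists_uni_prime {q k : ℕ} (hq : Odd q) (hq3 : 3 ≤ q) (hk : 2 ≤ k) :
    ∃ r : ℕ, r.Prime ∧ r ≠ 2 ∧ r ∣ (if Even k then q ^ k + 1 else q ^ k - 1) ∧
      ∀ j, 0 < j → r ∣ q ^ (2 * j) - 1 → k ∣ j := by
  have h21 : q ^ 1 - 1 = q - 1 := by rw [pow_one]
  by_cases hev : Even k
  · obtain ⟨r, hr, hd, hprim⟩ := Cfsg.Agent.S2904.result q (2 * k) (by omega) (by omega) (by omega)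
      (fun h => by omega)
    have hr2 : r ≠ 2 := fun h => hprim 1 one_pos (by omega) (by
      rw [h, pow_one]; exact even_iff_two_dvd.mp (Nat.Odd.sub_odd hq odd_one))
    refine ⟨r, hr, hr2, ?_, fun j hj hjd => ?_⟩
    · rw [if_pos hev]
      rw [show q ^ (2 * k) - 1 = (q ^ k + 1) * (q ^ k - 1) by
        rw [← Nat.sq_sub_sq, one_pow, ← pow_mul, mul_comm k 2]] at hd
      exact ((Nat.Prime.dvd_mul hr).1 hd).resolve_right (hprim k (by omega) (by omega))
    · have h := pow_sub_one_dvd_gcd hjd hd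
      rw [Nat.gcd_mul_left] at h
      by_contra hkj
      have hlt : Nat.gcd j k < k := lt_of_le_of_ne (Nat.le_of_dvd (by omega) (Nat.gcd_dvd_right _ _))
        fun e => hkj (e ▸ Nat.gcd_dvd_left _ _)
      exact hprim _ (Nat.mul_pos two_pos (Nat.gcd_pos_of_pos_right _ (by omega))) (by omega) h
  · obtain ⟨r, hr, hd, hprim⟩ := Cfsg.Agent.S2904.result q k (by omega) (by omega) (by omega)
      (fun h => hev (h.1 ▸ even_two))
    have hr2 : r ≠ 2 := fun h => hprim 1 one_pos (by omega) (by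
      rw [h, pow_one]; exact even_iff_two_dvd.mp (Nat.Odd.sub_odd hq odd_one))
    refine ⟨r, hr, hr2, by rw [if_neg hev]; exact hd, fun j hj hjd => ?_⟩
    have h := pow_sub_one_dvd_gcd hjd hd
    rw [Nat.Coprime.gcd_mul_left_cancel j (Nat.coprime_two_left.mpr (Nat.not_even_iff_odd.mp hev))] at h
    by_contra hkj
    have hlt : Nat.gcd j k < k := lt_of_le_of_ne (Nat.le_of_dvd (by omega) (Nat.gcd_dvd_right _ _))
      fun e => hkj (e ▸ Nat.gcd_dvd_left _ _)
    exact hprim _ (Nat.gcd_pos_of_pos_right _ (by omega)) hlt h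

/-- The prime attached to the linear torus. -/
theorem exists_lin_prime {q k : ℕ} (hq : Odd q) (hq3 : 3 ≤ q) (hk : 2 ≤ k) :
    ∃ r : ℕ, r.Prime ∧ r ∣ q ^ k + 1 ∧ ∀ i, 0 < i → i < 2 * k → ¬ r ∣ q ^ i - 1 := by
  obtain ⟨r, hr, hd, hprim⟩ := Cfsg.Agent.S2904.result q (2 * k) (by omega) (by omega) (by omega)
    (fun h => by omega)
  refine ⟨r, hr, ?_, hprim⟩
  rw [show q ^ (2 * k) - 1 = (q ^ k + 1) * (q ^ k - 1) by
    rw [← Nat.sq_sub_sq, one_pow, ← pow_mul, mul_comm k 2]] at hd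
  exact ((Nat.Prime.dvd_mul hr).1 hd).resolve_right (hprim k (by omega) (by omega))

end Cfsg.Agent.KnownB.HalfTorus
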