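import Cfsg.Agent.KnownB.HalfTorus.Arith
import Cfsg.Agent.KnownB.SpecThree.Main
import Cfsg.Agent.KnownB.LinearOrders

/-! Elements of order `q ^ (n / 2) + 1` in `PSL_n(q)`. -/

set_option autoImplicit false

namespace Cfsg.Agent.KnownB.HalfTorus

open Polynomial

variable {F : Type*} [Field F] [Fintype F]

/-- An element killed by `q - 1` lies in `F`. -/
theorem mem_base {K : Type*} [Field K] [Algebra F K] {y : K} (hy : y ^ (Fintype.card F - 1) = 1) :
    ∃ c : F, algebraMap F K c = y := by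
  classical
  by_contra hne
  push Not at hne
  have hq : 2 ≤ Fintype.card F := Fintype.one_lt_card
  have hpow : y ^ Fintype.card F = y := by
    rw [show Fintype.card F = Fintype.card F - 1 + 1 by omega, pow_succ, hy, one_mul]
  have hcard : (Finset.univ.image (algebraMap F K)).card = Fintype.card F := by
    rw [Finset.card_image_of_injective _ (algebraMap F K).injective, Finset.card_univ]
  have hsub : insert y (Finset.univ.image (algebraMap F K)) ⊆
      (X ^ Fintype.card F - X : K[X]).roots.toFinset := by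
    intro z hz
    rw [Multiset.mem_toFinset, mem_roots (FiniteField.X_pow_card_sub_X_ne_zero K Fintype.one_lt_card),
      IsRoot.def, eval_sub, eval_pow, eval_X, sub_eq_zero]
    rcases Finset.mem_insert.mp hz with rfl | hz
    · exact hpow
    · obtain ⟨c, -, rfl⟩ := Finset.mem_image.mp hz
      rw [← map_pow, FiniteField.pow_card]
  have h1 := Finset.card_le_card hsub
  rw [Finset.card_insert_of_notMem (by simpa using hne), hcard] at h1
  have h2 := (Multiset.toFinset_card_le _).trans (card_roots' (X ^ Fintype.card F - X : K[X]))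
  rw [FiniteField.X_pow_card_sub_X_natDegree_eq K Fintype.one_lt_card] at h2
  omega

variable {n : ℕ}

theorem mk_pow_eq_one_iff [NeZero n] (x : Matrix.SpecialLinearGroup (Fin n) F) (j : ℕ) :
    (QuotientGroup.mk x : Matrix.ProjectiveSpecialLinearGroup (Fin n) F) ^ j = 1 ↔
      ∃ c : F, x.1 ^ j = c • 1 := by
  rw [← QuotientGroup.mk_pow, QuotientGroup.eq_one_iff, Matrix.SpecialLinearGroup.mem_center_iff]
  constructor
  · rintro ⟨c, -, e⟩
    exact ⟨c, by rw [← Matrix.SpecialLinearGroup.coe_pow, ← e, Matrix.scalar_apply,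
      Matrix.smul_one_eq_diagonal]⟩
  · rintro ⟨c, e⟩
    refine ⟨c, ?_, ?_⟩
    · have := (x ^ j).2
      rw [Matrix.SpecialLinearGroup.coe_pow, e, Matrix.det_smul, Matrix.det_one, mul_one] at this
      exact this
    · rw [Matrix.SpecialLinearGroup.coe_pow, e, Matrix.scalar_apply, Matrix.smul_one_eq_diagonal]

/-- An element of order divisible by a primitive prime divisor lies in a Singer cycle. -/
theorem orderOf_dvd_singer (hn : 0 < n) (g : Matrix.ProjectiveSpecialLinearGroup (Fin n) F) {r : ℕ}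
    (hcop : ((orderOf g : ℕ) : F) ≠ 0) (hrg : r ∣ orderOf g) (hr : r.Prime)
    (hprim : ∀ i, 0 < i → i < n → ¬ r ∣ Fintype.card F ^ i - 1) {M : ℕ}
    (hM : M * (Fintype.card F - 1) = Fintype.card F ^ n - 1) :
    orderOf g ∣ M / Nat.gcd n (Fintype.card F - 1) := by
  classical
  haveI : NeZero n := ⟨hn.ne'⟩
  have hq : 2 ≤ Fintype.card F := Fintype.one_lt_card
  obtain ⟨x, rfl⟩ := QuotientGroup.mk_surjective g
  set N := orderOf (QuotientGroup.mk x : Matrix.ProjectiveSpecialLinearGroup (Fin n) F)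
  obtain ⟨c, hc⟩ := (mk_pow_eq_one_iff x N).mp (pow_orderOf_eq_one _)
  have hc0 : c ≠ 0 := fun h => by
    have := (x ^ N).2
    rw [Matrix.SpecialLinearGroup.coe_pow, hc, h, zero_smul, Matrix.det_zero] at this
    exact zero_ne_one this
  set m := N * (Fintype.card F - 1) with hm
  have hxm : x.1 ^ m = 1 := by
    rw [hm, pow_mul, hc, _root_.smul_pow, one_pow, FiniteField.pow_card_sub_one_eq_one c hc0, one_smul]
  have hm0 : (m : F) ≠ 0 := by
    rw [hm, Nat.cast_mul, Nat.cast_sub (by omega), FiniteField.cast_card_eq_zero, Nat.cast_one, zero_sub,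
      mul_neg, mul_one, neg_ne_zero]
    exact hcop
  have hdiv : minpoly F x.1 ∣ X ^ m - C 1 := minpoly.dvd F _ (by simp [hxm])
  have hsep : (X ^ m - C 1 : F[X]).Separable := separable_X_pow_sub_C 1 hm0 one_ne_zero
  have hint : IsIntegral F x.1 := Algebra.IsIntegral.isIntegral _
  have hμ0 : minpoly F x.1 ≠ 0 := minpoly.ne_zero hint
  have hμn : (minpoly F x.1).natDegree ≤ n := by
    calc _ ≤ x.1.charpoly.natDegree :=
          natDegree_le_of_dvd (Matrix.minpoly_dvd_charpoly _) x.1.charpoly_monic.ne_zero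
      _ = n := by simp
  -- some irreducible factor has degree `n`
  obtain ⟨f, hf, hfd, hfn⟩ : ∃ f : F[X], Irreducible f ∧ f ∣ minpoly F x.1 ∧ f.natDegree = n := by
    by_contra hall
    push Not at hall
    set L := ∏ i ∈ Finset.Ico 1 n, (Fintype.card F ^ i - 1) with hL
    have key : minpoly F x.1 ∣ X ^ L - 1 := by
      refine dvd_of_squarefree (hsep.of_dvd hdiv).squarefree fun f hf hfd => ?_
      haveI : Fact (Irreducible f) := ⟨hf.irreducible⟩
      haveI : Module.Finite F (AdjoinRoot f) := (AdjoinRoot.powerBasis hf.ne_zero).finite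
      haveI : Finite (AdjoinRoot f) := Module.finite_of_finite F
      haveI : Fintype (AdjoinRoot f) := Fintype.ofFinite _
      have hroot : AdjoinRoot.root f ≠ 0 := fun h0 => by
        have := AdjoinRoot.mk_eq_zero.mpr (hfd.trans hdiv)
        have hm1 : m ≠ 0 := fun h => hm0 (by simp [h])
        simp [h0, zero_pow hm1] at this
      have hlt : f.natDegree < n := lt_of_le_of_ne ((natDegree_le_of_dvd hfd hμ0).trans hμn)
        (hall f hf.irreducible hfd)
      have hcard : Fintype.card (AdjoinRoot f) = Fintype.card F ^ f.natDegree := by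
        rw [Module.card_eq_pow_finrank (K := F), (AdjoinRoot.powerBasis hf.ne_zero).finrank,
          AdjoinRoot.powerBasis_dim]
      obtain ⟨t, ht⟩ : Fintype.card F ^ f.natDegree - 1 ∣ L :=
        Finset.dvd_prod_of_mem (fun i => Fintype.card F ^ i - 1)
          (Finset.mem_Ico.mpr ⟨hf.irreducible.natDegree_pos, hlt⟩)
      refine AdjoinRoot.mk_eq_zero.mp ?_
      simp [ht, pow_mul, ← hcard, FiniteField.pow_card_sub_one_eq_one _ hroot]
    obtain ⟨t, ht⟩ := key
    have hxL : x.1 ^ L = 1 := by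
      have := congrArg (Polynomial.aeval x.1) ht
      simp [minpoly.aeval] at this
      exact sub_eq_zero.mp this
    have hNL : N ∣ L := orderOf_dvd_of_pow_eq_one ((mk_pow_eq_one_iff x L).mpr ⟨1, by rw [hxL, one_smul]⟩)
    obtain ⟨i, hi, hri⟩ := (Prime.dvd_finsetProd_iff hr.prime _).mp (hrg.trans hNL)
    exact hprim i (Finset.mem_Ico.mp hi).1 (Finset.mem_Ico.mp hi).2 hri
  haveI : Fact (Irreducible f) := ⟨hf⟩
  have hf' : Irreducible (f * C f.leadingCoeff⁻¹) := irreducible_mul_leadingCoeff_inv.mpr hf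
  set φ := f * C f.leadingCoeff⁻¹ with hφ
  have hφm : φ.Monic := monic_mul_leadingCoeff_inv hf.ne_zero
  have hφd : φ.natDegree = n := by rw [hφ, natDegree_mul_leadingCoeff_inv _ hf.ne_zero, hfn]
  have hφdvd : φ ∣ x.1.charpoly :=
    ((associated_mul_unit_left f _ (isUnit_C.mpr (inv_ne_zero (leadingCoeff_ne_zero.mpr hf.ne_zero)).isUnit)).dvd).trans
      (hfd.trans (Matrix.minpoly_dvd_charpoly _))
  have heq : x.1.charpoly = φ :=
    Polynomial.eq_of_monic_of_dvd_of_natDegree_le hφm x.1.charpoly_monic hφdvd (by simp [hφd])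
  haveI : Fact (Irreducible φ) := ⟨hf'⟩
  have hn1 := Cfsg.Agent.KnownB.SpecThree.root_norm hf' hφm hφd
  have hdet : (-1 : F) ^ n * φ.coeff 0 = 1 := by
    have := Matrix.det_eq_sign_charpoly_coeff x.1
    rw [x.2, Fintype.card_fin, heq] at this
    exact this.symm
  rw [hdet, map_one, ← hM, Nat.mul_div_cancel _ (by omega)] at hn1
  set d := Nat.gcd n (Fintype.card F - 1) with hd
  have hdM : d ∣ M := by
    have hMs : M = sLin (Fintype.card F) n := by
      have := sLin_mul (q := Fintype.card F) (k := n) (by omega)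
      exact Nat.eq_of_mul_eq_mul_right (show 0 < Fintype.card F - 1 by omega) (hM.trans this.symm)
    rw [hMs, sLin_dvd_iff (Nat.gcd_dvd_right _ _) (by omega)]
    exact Nat.gcd_dvd_left _ _
  obtain ⟨y, hy⟩ : ∃ y : F, algebraMap F (AdjoinRoot φ) y = AdjoinRoot.root φ ^ (M / d) := by
    refine mem_base ?_
    obtain ⟨t, ht⟩ : d ∣ Fintype.card F - 1 := Nat.gcd_dvd_right _ _
    rw [← pow_mul, ht, ← mul_assoc, Nat.div_mul_cancel hdM, pow_mul, hn1, one_pow]
  refine orderOf_dvd_of_pow_eq_one ((mk_pow_eq_one_iff x _).mpr ⟨y, ?_⟩)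
  obtain ⟨t, ht⟩ := Cfsg.Agent.KnownB.SpecThree.dvd_sub_of_root hf' hy.symm
  have e := congrArg (Polynomial.aeval x.1) ht
  rw [map_sub, map_pow, aeval_X, aeval_C, map_mul, ← heq, Matrix.aeval_self_charpoly, zero_mul,
    sub_eq_zero, Algebra.algebraMap_eq_smul_one] at e
  exact e

theorem exists_singer_element (hn : 0 < n) {M : ℕ}
    (hM : M * (Fintype.card F - 1) = Fintype.card F ^ n - 1) :
    ∃ g : Matrix.ProjectiveSpecialLinearGroup (Fin n) F,
      M / Nat.gcd n (Fintype.card F - 1) ∣ orderOf g := by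
  classical
  haveI : NeZero n := ⟨hn.ne'⟩
  obtain ⟨p, hp⟩ := CharP.exists F
  haveI : Fact p.Prime := ⟨CharP.char_is_prime F p⟩
  have hq : 2 ≤ Fintype.card F := Fintype.one_lt_card
  obtain ⟨w, hw⟩ := Cfsg.Agent.KnownB.SpecThree.exists_generator (F := F) p n hn
  let b : Module.Basis (Fin n) F (FiniteField.Extension F p n) :=
    Module.finBasisOfFinrankEq F _ (FiniteField.finrank_extension ..)
  have hqn : 1 < Fintype.card F ^ n := Nat.one_lt_pow hn.ne' (by omega)
  have hw0 : w ≠ 0 := fun h => by rw [h, orderOf_zero] at hw; omega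
  set z := w ^ (Fintype.card F - 1) with hz
  have hzo : orderOf z = M := by
    rw [hz, orderOf_pow_of_dvd (by omega) (by rw [hw, ← hM]; exact dvd_mul_left _ _), hw, ← hM,
      Nat.mul_div_cancel _ (by omega)]
  have hdet : (Algebra.leftMulMatrix b z).det = 1 := by
    rw [← Algebra.norm_eq_matrix_det b, hz, map_pow, FiniteField.pow_card_sub_one_eq_one]
    intro h
    have := congrArg (algebraMap F (FiniteField.Extension F p n)) h
    rw [map_zero, FiniteField.algebraMap_norm_eq_pow] at this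
    exact hw0 (eq_zero_of_pow_eq_zero this)
  refine ⟨QuotientGroup.mk ⟨_, hdet⟩, ?_⟩
  set j := orderOf (QuotientGroup.mk (⟨_, hdet⟩ : Matrix.SpecialLinearGroup (Fin n) F) :
    Matrix.ProjectiveSpecialLinearGroup (Fin n) F)
  obtain ⟨c, hc⟩ := (mk_pow_eq_one_iff _ j).mp (pow_orderOf_eq_one
    (QuotientGroup.mk (⟨_, hdet⟩ : Matrix.SpecialLinearGroup (Fin n) F) :
      Matrix.ProjectiveSpecialLinearGroup (Fin n) F))
  have hzj : z ^ j = algebraMap F _ c := by
    refine Algebra.leftMulMatrix_injective b ?_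
    rw [map_pow, AlgHom.commutes, Algebra.algebraMap_eq_smul_one]
    exact hc
  have hcn : c ^ n = 1 := by
    have := congrArg Matrix.det hc
    rw [Matrix.det_pow, hdet, one_pow, Matrix.det_smul, Matrix.det_one, mul_one, Fintype.card_fin] at this
    exact this.symm
  have hc0 : c ≠ 0 := fun h => by simp [h, zero_pow hn.ne'] at hcn
  have h1 : M ∣ j * n := hzo ▸ orderOf_dvd_of_pow_eq_one (by rw [pow_mul, hzj, ← map_pow, hcn, map_one])
  have h2 : M ∣ j * (Fintype.card F - 1) := hzo ▸ orderOf_dvd_of_pow_eq_one (by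
    rw [pow_mul, hzj, ← map_pow, FiniteField.pow_card_sub_one_eq_one c hc0, map_one])
  have h3 : M ∣ j * Nat.gcd n (Fintype.card F - 1) := by rw [← Nat.gcd_mul_left]; exact Nat.dvd_gcd h1 h2
  have hdM : Nat.gcd n (Fintype.card F - 1) ∣ M := by
    have := sLin_mul (q := Fintype.card F) (k := n) (by omega)
    rw [Nat.eq_of_mul_eq_mul_right (show 0 < Fintype.card F - 1 by omega) (hM.trans this.symm),
      sLin_dvd_iff (Nat.gcd_dvd_right _ _) (by omega)]
    exact Nat.gcd_dvd_left _ _
  rw [Nat.div_dvd_iff_dvd_mul hdM (Nat.gcd_pos_of_pos_left _ hn), mul_comm]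
  exact h3

theorem linear_half {q : ℕ} (hF : Fintype.card F = q) (hodd : Odd q) (hn : 4 ≤ n) (heven : Even n) :
    (∃ g : Matrix.ProjectiveSpecialLinearGroup (Fin n) F, orderOf g = q ^ (n / 2) + 1) ↔
      padicValNat 2 (q - 1) < padicValNat 2 n := by
  subst hF
  have hq : 2 ≤ Fintype.card F := Fintype.one_lt_card
  have hq3 : 3 ≤ Fintype.card F := by obtain ⟨t, ht⟩ := hodd; omega
  obtain ⟨k, rfl⟩ := heven
  rw [show k + k = 2 * k by ring] at *
  rw [Nat.mul_div_cancel_left k two_pos]
  set q := Fintype.card F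
  set M := sLin q k * (q ^ k + 1) with hMdef
  have hM : M * (q - 1) = q ^ (2 * k) - 1 := by
    rw [hMdef, mul_right_comm, sLin_mul (by omega), mul_comm, ← Nat.sq_sub_sq, one_pow, ← pow_mul,
      mul_comm k 2]
  set d := Nat.gcd (2 * k) (q - 1) with hd
  have hdM : d ∣ M := by
    have := sLin_mul (q := q) (k := 2 * k) (by omega)
    rw [Nat.eq_of_mul_eq_mul_right (show 0 < q - 1 by omega) (hM.trans this.symm),
      sLin_dvd_iff (Nat.gcd_dvd_right _ _) (by omega)]
    exact Nat.gcd_dvd_left _ _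
  rw [← gcd_dvd_half_iff (show k ≠ 0 by omega) (show q - 1 ≠ 0 by omega), ← hd,
    ← sLin_dvd_iff (Nat.gcd_dvd_right _ _) (show 1 ≤ q by omega),
    ← dvd_div_iff (show 0 < q ^ k + 1 by omega) hdM]
  constructor
  · rintro ⟨g, hg⟩
    obtain ⟨r, hr, hrN, hprim⟩ := exists_lin_prime hodd hq3 (show 2 ≤ k by omega)
    have key := orderOf_dvd_singer (by omega) g (r := r) ?_ (hg ▸ hrN) hr hprim hM
    · rwa [hg] at key
    rw [hg, Nat.cast_add, Nat.cast_pow, FiniteField.cast_card_eq_zero, zero_pow (by omega), zero_add,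
      Nat.cast_one]
    exact one_ne_zero
  · intro h
    obtain ⟨g, hg⟩ := exists_singer_element (F := F) (show 0 < 2 * k by omega) hM
    exact Cfsg.Agent.KnownB.SpecThree.exists_of_dvd g (h.trans hg)

end Cfsg.Agent.KnownB.HalfTorus
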