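import Cfsg.Agent.KnownB.HalfTorus.Linear
import Cfsg.Agent.Forms.UnitarySpectrum
import Cfsg.Agent.Forms.UnitaryThreeRoots

/-! Elements of order `q ^ (n / 2) + (-1) ^ (n / 2)` in `PSU_n(q)`. -/

set_option autoImplicit false
set_option maxHeartbeats 800000

namespace Cfsg.Agent.KnownB.HalfTorus

open Polynomial Cfsg.Agent.Forms
open scoped Matrix
open KnownA (ub act)

variable {F : Type*} [Field F] [Fintype F] {q n : ℕ}

theorem su_mk_pow_eq_one (hF : Fintype.card F = q ^ 2) (hn : 2 ≤ n) (g : Cfsg.SU n F q) (j : ℕ) :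
    (QuotientGroup.mk g : Cfsg.PSU n F q) ^ j = 1 ↔
      ∃ c : F, (g : Matrix.SpecialLinearGroup (Fin n) F).1 ^ j = c • 1 := by
  rw [← QuotientGroup.mk_pow, QuotientGroup.eq_one_iff, su_mem_center_iff hF hn]
  refine exists_congr fun c => ?_
  rw [← Matrix.SpecialLinearGroup.coe_pow, ← SubmonoidClass.coe_pow]
  refine ⟨fun h => matrix_ext_mulVec fun v => ?_, fun h v => ?_⟩
  · rw [Matrix.smul_mulVec, Matrix.one_mulVec]
    exact h v
  · show _ *ᵥ v = _
    rw [h, Matrix.smul_mulVec, Matrix.one_mulVec]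

theorem su_star (hF : Fintype.card F = q ^ 2) (g : Cfsg.SU n F q) :
    (g : Matrix.SpecialLinearGroup (Fin n) F).1.transpose *
      (g : Matrix.SpecialLinearGroup (Fin n) F).1.map (fun x => x ^ q) = 1 := by
  have hq : q ≠ 0 := by have := two_le_q hF; omega
  set M := (g : Matrix.SpecialLinearGroup (Fin n) F).1
  ext i j
  have := g.2 (Pi.single i 1) (Pi.single j 1)
  change Cfsg.hermForm n F q (M *ᵥ Pi.single i 1) (M *ᵥ Pi.single j 1) = _ at this
  rw [Matrix.mulVec_single_one, Matrix.mulVec_single_one] at this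
  rw [Matrix.mul_apply, Matrix.one_apply]
  refine (Eq.trans ?_ this).trans ?_
  · simp [Cfsg.hermForm, Matrix.col]
  · simp [Cfsg.hermForm, Pi.single_apply, ite_pow, zero_pow hq, eq_comm]

/-- The conjugate of an eigenvalue in an extension. -/
theorem su_eig_conj (hF : Fintype.card F = q ^ 2) (hn : 0 < n) (g : Cfsg.SU n F q) {L : Type*} [Field L]
    [Algebra F L] {α : L} (hα : Polynomial.aeval α (g : Matrix.SpecialLinearGroup (Fin n) F).1.charpoly = 0) :
    α ≠ 0 ∧
      Polynomial.aeval ((α ^ q)⁻¹) (g : Matrix.SpecialLinearGroup (Fin n) F).1.charpoly = 0 := by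
  obtain ⟨p, l, hp, hcp, hqp⟩ := exists_q_eq_pow hF
  haveI : Fact p.Prime := ⟨hp⟩
  haveI : CharP L p := charP_of_injective_algebraMap (algebraMap F L).injective p
  set A := (g : Matrix.SpecialLinearGroup (Fin n) F).1 with hA
  have hev : ∀ z : L, Polynomial.aeval z A.charpoly =
      (Matrix.scalar (Fin n) z - A.map (algebraMap F L)).det := fun z => by
    rw [← Matrix.eval_charpoly, Matrix.charpoly_map, Polynomial.eval_map, Polynomial.aeval_def]
  rw [hev] at hα
  let φ : L →+* L := iterateFrobenius L p l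
  have hφ : ∀ a, φ a = a ^ q := fun a => by rw [iterateFrobenius_def, hqp]
  set B : Matrix (Fin n) (Fin n) L := (A.map (algebraMap F L)).map φ
  have hAB : (A.map (algebraMap F L)).transpose * B = 1 := by
    have h := congrArg (fun M : Matrix (Fin n) (Fin n) F => M.map (algebraMap F L)) (su_star hF g)
    rw [Matrix.map_mul, Matrix.map_one _ (map_zero _) (map_one _)] at h
    refine Eq.trans ?_ h
    congr 1
    ext i j
    simp [B, hφ, hA]
  have hdet1 : (A.map (algebraMap F L)).det = 1 := by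
    rw [← RingHom.mapMatrix_apply, ← RingHom.map_det, Matrix.SpecialLinearGroup.det_coe, map_one]
  have hBdet : (Matrix.scalar (Fin n) (α ^ q) - B).det = 0 := by
    have h := congrArg φ hα
    rw [map_zero, RingHom.map_det, map_sub] at h
    refine Eq.trans ?_ h
    congr 2
    ext i j
    simp [Matrix.diagonal_apply, apply_ite φ, hφ, zero_pow (show q ≠ 0 by have := two_le_q hF; omega)]
  have hα0 : α ≠ 0 := by
    rintro rfl
    rw [map_zero, zero_sub, Matrix.det_neg, hdet1, mul_one] at hα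
    exact pow_ne_zero _ (neg_ne_zero.mpr (one_ne_zero (α := L))) hα
  have hq0 : α ^ q ≠ 0 := pow_ne_zero _ hα0
  refine ⟨hα0, ?_⟩
  rw [hev]
  have e : (A.map (algebraMap F L)).transpose * (Matrix.scalar (Fin n) (α ^ q) - B) =
      (-α ^ q) • (Matrix.scalar (Fin n) (α ^ q)⁻¹ - A.map (algebraMap F L)).transpose := by
    rw [Matrix.mul_sub, hAB, Matrix.transpose_sub, Matrix.scalar_apply, Matrix.scalar_apply,
      Matrix.diagonal_transpose, ← Matrix.smul_one_eq_diagonal, ← Matrix.smul_one_eq_diagonal,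
      Matrix.mul_smul, Matrix.mul_one, smul_sub, smul_smul, neg_mul, mul_inv_cancel₀ hq0]
    module
  have h := congrArg Matrix.det e
  rw [Matrix.det_mul, hBdet, mul_zero, Matrix.det_smul, Matrix.det_transpose, eq_comm, mul_eq_zero] at h
  exact h.resolve_left (pow_ne_zero _ (neg_ne_zero.mpr hq0))

theorem root_conj {f : F[X]} (hf : Irreducible f) (hm : f.Monic) :
    haveI : Fact (Irreducible f) := ⟨hf⟩
    ∀ β : AdjoinRoot f, Polynomial.aeval β f = 0 →
      ∃ i, i < f.natDegree ∧ β = AdjoinRoot.root f ^ Fintype.card F ^ i := by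
  haveI : Fact (Irreducible f) := ⟨hf⟩
  intro β hβ
  let pb := AdjoinRoot.powerBasis hm.ne_zero
  haveI : Module.Finite F (AdjoinRoot f) := pb.finite
  haveI : Finite (AdjoinRoot f) := Module.finite_of_finite F
  have hdim : Module.finrank F (AdjoinRoot f) = f.natDegree := by
    rw [pb.finrank, AdjoinRoot.powerBasis_dim]
  let ψ : AdjoinRoot f →ₐ[F] AdjoinRoot f := pb.lift β (by
    rw [AdjoinRoot.powerBasis_gen, AdjoinRoot.minpoly_root hm.ne_zero, hm.leadingCoeff, inv_one, C_1, mul_one]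
    exact hβ)
  let e : AdjoinRoot f ≃ₐ[F] AdjoinRoot f :=
    AlgEquiv.ofBijective ψ (Finite.injective_iff_bijective.mp ψ.toRingHom.injective)
  obtain ⟨i, hi⟩ := (FiniteField.bijective_frobeniusAlgEquivOfAlgebraic_pow F (AdjoinRoot f)).surjective e
  refine ⟨i, hdim ▸ i.2, ?_⟩
  have h1 : ψ (AdjoinRoot.root f) = β := pb.lift_gen β _
  rw [← h1, show ψ (AdjoinRoot.root f) = e (AdjoinRoot.root f) from rfl, ← hi]
  simp [AlgEquiv.coe_pow, FiniteField.coe_frobeniusAlgEquivOfAlgebraic, pow_iterate]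

theorem pow_card_pow_natDegree {f : F[X]} (hf : Irreducible f) :
    haveI : Fact (Irreducible f) := ⟨hf⟩
    ∀ z : AdjoinRoot f, z ^ Fintype.card F ^ f.natDegree = z := by
  haveI : Fact (Irreducible f) := ⟨hf⟩
  intro z
  haveI : Module.Finite F (AdjoinRoot f) := (AdjoinRoot.powerBasis hf.ne_zero).finite
  haveI : Finite (AdjoinRoot f) := Module.finite_of_finite F
  haveI : Fintype (AdjoinRoot f) := Fintype.ofFinite _
  have hc : Fintype.card (AdjoinRoot f) = Fintype.card F ^ f.natDegree := by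
    rw [Module.card_eq_pow_finrank (K := F), (AdjoinRoot.powerBasis hf.ne_zero).finrank,
      AdjoinRoot.powerBasis_dim]
  rw [← hc, FiniteField.pow_card]

theorem su_orderOf_dvd (hF : Fintype.card F = q ^ 2) {k : ℕ} (hk : 2 ≤ k) (g : Cfsg.PSU (2 * k) F q)
    (hcop : ((orderOf g : ℕ) : F) ≠ 0) {r : ℕ} (hr : r.Prime) (hr2 : r ≠ 2) (hrg : r ∣ orderOf g)
    (hrN : r ∣ (if Even k then q ^ k + 1 else q ^ k - 1))
    (hP : ∀ j, 0 < j → r ∣ q ^ (2 * j) - 1 → k ∣ j) {M : ℕ} (hM : M * (q + 1) = q ^ (2 * k) - 1)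
    (hdM : Nat.gcd (2 * k) (q + 1) ∣ M) :
    orderOf g ∣ M / Nat.gcd (2 * k) (q + 1) := by
  classical
  have hq := two_le_q hF
  have hcard : ∀ i, Fintype.card F ^ i = q ^ (2 * i) := fun i => by rw [hF, ← pow_mul]
  obtain ⟨x, rfl⟩ := QuotientGroup.mk_surjective g
  set A := (x : Matrix.SpecialLinearGroup (Fin (2 * k)) F).1 with hA
  set N := orderOf (QuotientGroup.mk x : Cfsg.PSU (2 * k) F q)
  obtain ⟨c, hc⟩ := (su_mk_pow_eq_one hF (by omega) x N).mp (pow_orderOf_eq_one _)
  have hdetA : A.det = 1 := Matrix.SpecialLinearGroup.det_coe _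
  haveI : Nonempty (Fin (2 * k)) := ⟨⟨0, by omega⟩⟩
  have hc0 : c ≠ 0 := fun h => by
    have := congrArg Matrix.det hc
    rw [Matrix.det_pow, hdetA, one_pow, h, zero_smul, Matrix.det_zero] at this
    exact one_ne_zero this
  set m := N * (Fintype.card F - 1) with hm
  have hAm : A ^ m = 1 := by
    rw [hm, pow_mul, hc, _root_.smul_pow, one_pow, FiniteField.pow_card_sub_one_eq_one c hc0, one_smul]
  have hm0 : (m : F) ≠ 0 := by
    have : 1 ≤ Fintype.card F := Fintype.card_pos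
    rw [hm, Nat.cast_mul, Nat.cast_sub this, FiniteField.cast_card_eq_zero, Nat.cast_one, zero_sub,
      mul_neg, mul_one, neg_ne_zero]
    exact hcop
  have hdiv : minpoly F A ∣ X ^ m - C 1 := minpoly.dvd F _ (by simp [hAm])
  have hsep : (X ^ m - C 1 : F[X]).Separable := separable_X_pow_sub_C 1 hm0 one_ne_zero
  have hμ0 : minpoly F A ≠ 0 := minpoly.ne_zero (Algebra.IsIntegral.isIntegral _)
  -- a factor whose roots have order divisible by `r`
  obtain ⟨f, hf, hfd, hrf⟩ : ∃ f : F[X], ∃ hf : Irreducible f, f ∣ minpoly F A ∧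
      (haveI : Fact (Irreducible f) := ⟨hf⟩; r ∣ orderOf (AdjoinRoot.root f)) := by
    by_contra hall
    push Not at hall
    set L := m / r ^ m.factorization r with hL
    have hm1 : m ≠ 0 := fun h => hm0 (by simp [h])
    have key : minpoly F A ∣ X ^ L - 1 := by
      refine dvd_of_squarefree (hsep.of_dvd hdiv).squarefree fun f hf hfd => ?_
      haveI : Fact (Irreducible f) := ⟨hf.irreducible⟩
      have hrm : AdjoinRoot.root f ^ m = 1 := by
        have := AdjoinRoot.mk_eq_zero.mpr (hfd.trans hdiv)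
        simpa [sub_eq_zero] using this
      have hord : orderOf (AdjoinRoot.root f) ∣ m := orderOf_dvd_of_pow_eq_one hrm
      have hnr := hall f hf.irreducible hfd
      have hdL : orderOf (AdjoinRoot.root f) ∣ L := by
        have hsplit : r ^ m.factorization r * L = m := Nat.ordProj_mul_ordCompl_eq_self m r
        exact (Nat.Coprime.pow_right _ (hr.coprime_iff_not_dvd.mpr hnr).symm).dvd_of_dvd_mul_left
          (hsplit.symm ▸ hord)
      refine AdjoinRoot.mk_eq_zero.mp ?_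
      simp [orderOf_dvd_iff_pow_eq_one.mp hdL]
    obtain ⟨t, ht⟩ := key
    have hAL : A ^ L = 1 := by
      have := congrArg (Polynomial.aeval A) ht
      simp [minpoly.aeval] at this
      exact sub_eq_zero.mp this
    have hNL : N ∣ L :=
      orderOf_dvd_of_pow_eq_one ((su_mk_pow_eq_one hF (by omega) x L).mpr ⟨1, by rw [hAL, one_smul]⟩)
    exact Nat.not_dvd_ordCompl hr hm1 (hrg.trans hNL)
  set φ := f * C f.leadingCoeff⁻¹ with hφdef
  have hφi : Irreducible φ := irreducible_mul_leadingCoeff_inv.mpr hf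
  have hφm : φ.Monic := monic_mul_leadingCoeff_inv hf.ne_zero
  haveI : Fact (Irreducible f) := ⟨hf⟩
  haveI : Fact (Irreducible φ) := ⟨hφi⟩
  have hassoc : Associated φ f :=
    associated_mul_unit_left f _ (isUnit_C.mpr (inv_ne_zero (leadingCoeff_ne_zero.mpr hf.ne_zero)).isUnit)
  -- transfer the order to the root of the monic factor
  set α := AdjoinRoot.root φ with hα
  have hrα : r ∣ orderOf α := by
    have hroot : Polynomial.aeval α f = 0 :=
      AdjoinRoot.aeval_eq f ▸ AdjoinRoot.mk_eq_zero.mpr hassoc.dvd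
    let ι : AdjoinRoot f →ₐ[F] AdjoinRoot φ := AdjoinRoot.liftAlgHom f (Algebra.ofId F _) α hroot
    have h1 : ι (AdjoinRoot.root f) = α := AdjoinRoot.liftAlgHom_root ..
    rw [← h1]
    exact (orderOf_injective (ι : AdjoinRoot f →* AdjoinRoot φ) ι.toRingHom.injective _).symm ▸ hrf
  have hφA : φ ∣ A.charpoly := hassoc.dvd.trans (hfd.trans (Matrix.minpoly_dvd_charpoly _))
  have hφα : Polynomial.aeval α φ = 0 := by rw [AdjoinRoot.aeval_eq, AdjoinRoot.mk_self]
  have hαroot : Polynomial.aeval α A.charpoly = 0 := by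
    obtain ⟨t, ht⟩ := hφA
    rw [ht, map_mul, hφα, zero_mul]
  obtain ⟨hα0, hβroot⟩ := su_eig_conj hF (by omega) x hαroot
  set β := (α ^ q)⁻¹ with hβ
  set D := φ.natDegree with hD
  have hDpos : 0 < D := hφi.natDegree_pos
  have hβ0 : β ≠ 0 := inv_ne_zero (pow_ne_zero _ hα0)
  have hkD : ∀ {E : ℕ}, 0 < E → ∀ z : AdjoinRoot φ, r ∣ orderOf z → z ≠ 0 →
      z ^ q ^ (2 * E) = z → k ∣ E := by
    intro E hE z hz hz0 hzE
    refine hP E hE (hz.trans (orderOf_dvd_of_pow_eq_one ?_))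
    refine mul_left_cancel₀ hz0 ?_
    rw [← pow_succ', Nat.sub_add_cancel (Nat.one_le_pow _ _ (by omega)), hzE, mul_one]
  have hαD : α ^ q ^ (2 * D) = α := by rw [← hcard]; exact pow_card_pow_natDegree hφi α
  have hkd : k ∣ D := hkD hDpos α hrα hα0 hαD
  -- `β` is not conjugate to `α`
  have hodd : ∀ e, Odd e → ¬ r ∣ q ^ e + 1 := fun e he h => by
    have h2 : r ∣ q ^ (2 * e) - 1 := h.trans ⟨q ^ e - 1, by
      rw [← Nat.sq_sub_sq, one_pow, ← pow_mul, mul_comm e 2]⟩
    obtain ⟨t, ht⟩ := hP e (Nat.pos_of_ne_zero (fun h0 => by simp [h0] at he)) h2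
    have hkodd : ¬ Even k := fun hev => (Nat.not_even_iff_odd.mpr he) (ht ▸ hev.mul_right t)
    rw [if_neg hkodd] at hrN
    have h3 : r ∣ q ^ e - 1 := hrN.trans (ht ▸ pow_mul q k t ▸ Nat.sub_one_dvd_pow_sub_one _ _)
    have h4 := Nat.dvd_sub h h3
    rw [show q ^ e + 1 - (q ^ e - 1) = 2 by have := Nat.one_le_pow e q (by omega); omega] at h4
    exact hr2 ((Nat.prime_dvd_prime_iff_eq hr Nat.prime_two).mp h4)
  have hβne : Polynomial.aeval β φ ≠ 0 := by
    intro hb
    obtain ⟨i, -, hi⟩ := root_conj hφi hφm β hb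
    rw [hcard] at hi
    obtain ⟨i, hi', hipos⟩ : ∃ i', β = α ^ q ^ (2 * i') ∧ 0 < i' := by
      rcases Nat.eq_zero_or_pos i with h0 | hpos
      · exact ⟨D, by rw [hαD, hi, h0]; simp [hα], hDpos⟩
      · exact ⟨i, hi, hpos⟩
    have hone : α ^ (q ^ (2 * i) + q) = 1 := by
      rw [pow_add, ← hi', hβ, inv_mul_cancel₀ (pow_ne_zero _ hα0)]
    have hdvd : r ∣ q * (q ^ (2 * i - 1) + 1) := by
      rw [mul_add, mul_one, ← pow_succ', Nat.sub_add_cancel (by omega)]
      exact hrα.trans (orderOf_dvd_of_pow_eq_one hone)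
    rcases (Nat.Prime.dvd_mul hr).mp hdvd with h | h
    · have h1 : r ∣ q ^ k := h.trans (dvd_pow_self q (by omega))
      split_ifs at hrN with hev
      · exact hr.not_dvd_one ((Nat.dvd_add_right h1).mp hrN)
      · have := Nat.dvd_sub h1 hrN
        rw [show q ^ k - (q ^ k - 1) = 1 by have := Nat.one_le_pow k q (by omega); omega] at this
        exact hr.not_dvd_one this
    · exact hodd _ ⟨i - 1, by omega⟩ h
  haveI : Module.Finite F (AdjoinRoot φ) := (AdjoinRoot.powerBasis hφi.ne_zero).finite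
  have hβint : IsIntegral F β := Algebra.IsIntegral.isIntegral β
  set ψ := minpoly F β with hψ
  have hψi : Irreducible ψ := minpoly.irreducible hβint
  have hψm : ψ.Monic := minpoly.monic hβint
  have hcop' : IsCoprime φ ψ := hφi.coprime_iff_not_dvd.mpr fun h => hβne (by
    have h0 := minpoly.aeval F β
    rw [← hψ, ← eq_of_monic_of_associated hφm hψm (hφi.associated_of_dvd hψi h)] at h0
    exact h0)
  have hprod : φ * ψ ∣ A.charpoly := hcop'.mul_dvd hφA (minpoly.dvd F β hβroot)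
  have hsum : D + ψ.natDegree ≤ 2 * k := by
    have h := natDegree_le_of_dvd hprod A.charpoly_monic.ne_zero
    rw [natDegree_mul hφi.ne_zero hψi.ne_zero, Matrix.charpoly_natDegree_eq_dim, Fintype.card_fin] at h
    exact h
  have hkψ : k ∣ ψ.natDegree := by
    haveI : Fact (Irreducible ψ) := ⟨hψi⟩
    refine hkD hψi.natDegree_pos β ?_ hβ0 ?_
    · -- the order of `β`
      refine (Nat.Coprime.dvd_of_dvd_mul_right (k := r) (n := q) ?_
        (hrα.trans (orderOf_dvd_of_pow_eq_one ?_)))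
      · refine hr.coprime_iff_not_dvd.mpr fun h => ?_
        have h1 : r ∣ q ^ k := h.trans (dvd_pow_self q (by omega))
        split_ifs at hrN with hev
        · exact hr.not_dvd_one ((Nat.dvd_add_right h1).mp hrN)
        · have := Nat.dvd_sub h1 hrN
          rw [show q ^ k - (q ^ k - 1) = 1 by have := Nat.one_le_pow k q (by omega); omega] at this
          exact hr.not_dvd_one this
      · rw [mul_comm, pow_mul, show α ^ q = β⁻¹ by rw [hβ, inv_inv], inv_pow, pow_orderOf_eq_one, inv_one]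
    · let ι : AdjoinRoot ψ →ₐ[F] AdjoinRoot φ :=
        AdjoinRoot.liftAlgHom ψ (Algebra.ofId F _) β (minpoly.aeval F β)
      have h := congrArg ι (pow_card_pow_natDegree hψi (AdjoinRoot.root ψ))
      rw [map_pow, show ι (AdjoinRoot.root ψ) = β from AdjoinRoot.liftAlgHom_root .., hcard] at h
      exact h
  have hDk : D = k ∧ ψ.natDegree = k := by
    obtain ⟨a, ha⟩ := hkd
    obtain ⟨b, hb⟩ := hkψ
    have hbpos := hψi.natDegree_pos
    have ha1 : 1 ≤ a := Nat.pos_of_ne_zero fun h => by rw [h, mul_zero] at ha; omega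
    have hb1 : 1 ≤ b := Nat.pos_of_ne_zero fun h => by rw [h, mul_zero] at hb; omega
    have : k * (a + b) ≤ k * 2 := by rw [mul_add, ← ha, ← hb]; omega
    have := Nat.le_of_mul_le_mul_left this (by omega)
    rw [show a = 1 by omega, mul_one] at ha
    rw [show b = 1 by omega, mul_one] at hb
    exact ⟨ha, hb⟩
  have heq : A.charpoly = φ * ψ :=
    Polynomial.eq_of_monic_of_dvd_of_natDegree_le (hφm.mul hψm) A.charpoly_monic hprod (by
      rw [natDegree_mul hφi.ne_zero hψi.ne_zero, Matrix.charpoly_natDegree_eq_dim, Fintype.card_fin,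
        ← hD, hDk.1, hDk.2]; omega)
  -- norms
  obtain ⟨S2, hS2⟩ : q ^ 2 - 1 ∣ (q ^ 2) ^ k - 1 := Nat.sub_one_dvd_pow_sub_one _ _
  have hS2' : ((q ^ 2) ^ k - 1) / (q ^ 2 - 1) = S2 := by
    rw [hS2, Nat.mul_div_cancel_left]
    have : 4 ≤ q ^ 2 := by nlinarith
    omega
  have hnα : α ^ S2 = algebraMap F _ ((-1) ^ k * φ.coeff 0) := by
    have h := Cfsg.Agent.KnownB.SpecThree.root_norm hφi hφm hDk.1
    rwa [hF, hS2'] at h
  have hnβ : β ^ S2 = algebraMap F _ ((-1) ^ k * ψ.coeff 0) := by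
    haveI : Fact (Irreducible ψ) := ⟨hψi⟩
    let ι : AdjoinRoot ψ →ₐ[F] AdjoinRoot φ :=
      AdjoinRoot.liftAlgHom ψ (Algebra.ofId F _) β (minpoly.aeval F β)
    have h := congrArg ι (Cfsg.Agent.KnownB.SpecThree.root_norm hψi hψm hDk.2)
    rwa [map_pow, show ι (AdjoinRoot.root ψ) = β from AdjoinRoot.liftAlgHom_root .., AlgHom.commutes, hF, hS2'] at h
  have hdet : ((-1 : F) ^ k * φ.coeff 0) * ((-1) ^ k * ψ.coeff 0) = 1 := by
    have h := Matrix.det_eq_sign_charpoly_coeff A
    rw [hdetA, Fintype.card_fin, heq, mul_coeff_zero] at h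
    linear_combination (norm := ring) -h
  have hαS : (α ^ S2) ^ (q - 1) = 1 := by
    have h : α ^ S2 * ((α ^ q) ^ S2)⁻¹ = 1 := by
      rw [← inv_pow, ← hβ, hnα, hnβ, ← map_mul, hdet, map_one]
    rw [← pow_mul] at h
    have h2 : (α ^ S2) ^ q = α ^ S2 := by
      rw [← pow_mul, mul_comm]
      exact ((mul_inv_eq_one₀ (pow_ne_zero _ hα0)).mp h).symm
    refine mul_left_cancel₀ (pow_ne_zero S2 hα0) ?_
    rw [← pow_succ', Nat.sub_add_cancel (by omega), h2, mul_one]
  have hMS : M = S2 * (q - 1) := by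
    refine Nat.eq_of_mul_eq_mul_right (show 0 < q + 1 by omega) ?_
    rw [hM, pow_mul, hS2, show q ^ 2 - 1 = (q + 1) * (q - 1) by rw [← Nat.sq_sub_sq, one_pow]]
    ring
  set d := Nat.gcd (2 * k) (q + 1)
  have hyd : (α ^ (M / d)) ^ d = 1 := by rw [← pow_mul, Nat.div_mul_cancel hdM, hMS, pow_mul, hαS]
  have hdq : d ∣ q + 1 := Nat.gcd_dvd_right _ _
  have hyq : (α ^ (M / d)) ^ (q + 1) = 1 := by
    obtain ⟨t, ht⟩ := hdq
    rw [ht, pow_mul, hyd, one_pow]
  obtain ⟨y, hy⟩ : ∃ y : F, algebraMap F (AdjoinRoot φ) y = α ^ (M / d) := by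
    refine mem_base ?_
    rw [hF, show q ^ 2 - 1 = (q + 1) * (q - 1) by rw [← Nat.sq_sub_sq, one_pow], pow_mul, hyq, one_pow]
  have hβy : β ^ (M / d) = algebraMap F _ y := by
    rw [hy, hβ, inv_pow, pow_right_comm]
    exact inv_eq_of_mul_eq_one_right (by rw [← pow_succ, hyq])
  have hd1 : φ ∣ X ^ (M / d) - C y := Cfsg.Agent.KnownB.SpecThree.dvd_sub_of_root hφi hy.symm
  have hd2 : ψ ∣ X ^ (M / d) - C y := minpoly.dvd F β (by simp [hβy])
  obtain ⟨t, ht⟩ := hcop'.mul_dvd hd1 hd2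
  refine orderOf_dvd_of_pow_eq_one ((su_mk_pow_eq_one hF (by omega) x _).mpr ⟨y, ?_⟩)
  have e := congrArg (Polynomial.aeval A) ht
  rw [map_sub, map_pow, aeval_X, aeval_C, map_mul _ (φ * ψ), ← heq, Matrix.aeval_self_charpoly, zero_mul,
    sub_eq_zero, Algebra.algebraMap_eq_smul_one] at e
  exact e

theorem su_exists_torus_element (hF : Fintype.card F = q ^ 2) {k : ℕ} (hk : 2 ≤ k) {M : ℕ}
    (hM : M * (q + 1) = q ^ (2 * k) - 1) (hdM : Nat.gcd (2 * k) (q + 1) ∣ M) :
    ∃ g : Cfsg.PSU (2 * k) F q, M / Nat.gcd (2 * k) (q + 1) ∣ orderOf g := by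
  classical
  have hσ2 := frobQ_frobQ hF
  have hσ := frobQ_ne_id hF
  let B : (Fin (2 * k) → F) →ₗ[F] (Fin (2 * k) → F) →ₛₗ[frobQ hF] F := (hermB (2 * k) hF).flip
  have hB : NondegHerm (frobQ hF) B :=
    ⟨fun x y => (hermB_isSymm hF).eq _ _, fun x hx => (hermB_nondegenerate hF).2 x hx⟩
  obtain ⟨B₁, a, hB₁, ha, haT⟩ := exists_herm_torus hF (e := 2 * k) (T₀ := q ^ (2 * k) - 1) (by omega)
    (Or.inr ⟨even_two_mul k, rfl⟩)
  obtain ⟨e, he⟩ := exists_herm_isometryEquiv hσ2 hσ (by simp) B₁ hB₁ B hB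
  let a' := (e.symm.trans a).trans e
  have ha' : ∀ x y, B (a' x) (a' y) = B x y := by
    intro x y
    obtain ⟨x, rfl⟩ := e.surjective x
    obtain ⟨y, rfl⟩ := e.surjective y
    simp only [a', LinearEquiv.trans_apply, LinearEquiv.symm_apply_apply, he, ha]
  have haN := det_norm_one hF (a' : Module.End F (Fin (2 * k) → F)) (fun x y => ha' y x)
  rw [frobQ_apply, ← pow_succ'] at haN
  have hpa : ∀ i x, (a' ^ i) (e x) = e (((a : Module.End F (Fin (2 * k) → F)) ^ i) x) := by
    intro i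
    induction i with
    | zero => intro x; rfl
    | succ i ih =>
      intro x
      rw [pow_succ, LinearEquiv.mul_apply, show a' (e x) = e (a x) by simp [a'], ih, pow_succ,
        Module.End.mul_apply]
      rfl
  have hiso : ∀ i x y, B ((a' ^ i) x) ((a' ^ i) y) = B x y := by
    intro i
    induction i with
    | zero => intros; rfl
    | succ i ih => intro x y; rw [pow_succ, LinearEquiv.mul_apply, LinearEquiv.mul_apply, ih, ha']
  obtain ⟨g, hg⟩ := KnownA.exists_su_of_linearMap hF ((a' ^ (q + 1) : (Fin (2 * k) → F) ≃ₗ[F] _) :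
      Module.End F (Fin (2 * k) → F)) (fun x y => hiso _ y x) (by rw [toEnd_pow, map_pow, haN])
  have hgp : ∀ j x, act (g ^ j) x = (a' ^ ((q + 1) * j)) x := by
    intro j
    induction j with
    | zero => intro x; rw [pow_zero, KnownA.act_one]; rfl
    | succ j ih =>
      intro x
      rw [pow_succ, KnownA.act_mul_apply, ih, hg, mul_add, mul_one, pow_add a' ((q + 1) * j) (q + 1),
        LinearEquiv.mul_apply]
      rfl
  have hone : ∀ j, g ^ j = 1 → M ∣ j := fun j h => by
    have h1 : (a : Module.End F (Fin (2 * k) → F)) ^ ((q + 1) * j) = 1 := LinearMap.ext fun x =>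
      e.injective (by rw [← hpa, ← hgp, h, KnownA.act_one]; rfl)
    have h2 := (haT _).1 h1
    rw [← hM, mul_comm (q + 1) j] at h2
    exact Nat.dvd_of_mul_dvd_mul_right (Nat.succ_pos q) h2
  refine ⟨QuotientGroup.mk g, ?_⟩
  set j := orderOf (QuotientGroup.mk g : Cfsg.PSU (2 * k) F q)
  obtain ⟨c, hc⟩ := (su_mk_pow_eq_one hF (by omega) g j).mp (pow_orderOf_eq_one _)
  have hcn : c ^ (2 * k) = 1 := by
    have := congrArg Matrix.det hc
    rw [Matrix.det_pow, Matrix.SpecialLinearGroup.det_coe, one_pow, Matrix.det_smul, Matrix.det_one,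
      mul_one, Fintype.card_fin] at this
    exact this.symm
  have hcq : c ^ (q + 1) = 1 := by
    have h := su_star hF (g ^ j)
    rw [SubmonoidClass.coe_pow, Matrix.SpecialLinearGroup.coe_pow, hc] at h
    have h00 := congrFun (congrFun h ⟨0, by omega⟩) ⟨0, by omega⟩
    rw [Matrix.mul_apply, Finset.sum_eq_single ⟨0, by omega⟩] at h00
    · simpa [← pow_succ'] using h00
    · intro b _ hb
      simp [Matrix.one_apply_ne hb]
    · simp
  have hcd : c ^ Nat.gcd (2 * k) (q + 1) = 1 := pow_gcd_eq_one.mpr ⟨hcn, hcq⟩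
  have h3 : M ∣ j * Nat.gcd (2 * k) (q + 1) := hone _ (Subtype.ext (Subtype.ext (by
    rw [SubmonoidClass.coe_pow, Matrix.SpecialLinearGroup.coe_pow, pow_mul, hc, _root_.smul_pow, one_pow,
      hcd, one_smul]
    rfl)))
  rw [Nat.div_dvd_iff_dvd_mul hdM (Nat.gcd_pos_of_pos_left _ (by omega)), mul_comm]
  exact h3

theorem unitary_half (hF : Fintype.card F = q ^ 2) (hodd : Odd q) (hn : 4 ≤ n) (heven : Even n) :
    (∃ g : Cfsg.PSU n F q, orderOf g =
      if Even (n / 2) then q ^ (n / 2) + 1 else q ^ (n / 2) - 1) ↔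
      padicValNat 2 (q + 1) < padicValNat 2 n := by
  obtain ⟨p, l, hp, hcp, hqp⟩ := exists_q_eq_pow hF
  have hq := two_le_q hF
  have hq3 : 3 ≤ q := by obtain ⟨t, ht⟩ := hodd; omega
  obtain ⟨k, rfl⟩ := heven
  rw [show k + k = 2 * k by ring] at *
  rw [Nat.mul_div_cancel_left k two_pos]
  set N := if Even k then q ^ k + 1 else q ^ k - 1 with hN
  have hqk : 2 ≤ q ^ k := le_trans hq (Nat.le_self_pow (by omega) q)
  have hN0 : 0 < N := by rw [hN]; split_ifs <;> omega
  obtain ⟨S, hS, hSd⟩ := exists_sUni q k (by omega)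
  have hM : S * N * (q + 1) = q ^ (2 * k) - 1 := by
    rw [mul_right_comm, hS, hN, mul_comm 2 k, pow_mul, show (q ^ k) ^ 2 - 1 = (q ^ k + 1) * (q ^ k - 1) by
      rw [← Nat.sq_sub_sq, one_pow]]
    split_ifs <;> ring
  have hdM : Nat.gcd (2 * k) (q + 1) ∣ S * N := by
    obtain ⟨S', hS', hS'd⟩ := exists_sUni q (2 * k) (by omega)
    rw [if_pos (even_two_mul k)] at hS'
    rw [Nat.eq_of_mul_eq_mul_right (show 0 < q + 1 by omega) (hM.trans hS'.symm), hS'd _ (Nat.gcd_dvd_right _ _)]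
    exact Nat.gcd_dvd_left _ _
  rw [← gcd_dvd_half_iff (show k ≠ 0 by omega) (show q + 1 ≠ 0 by omega),
    ← hSd _ (Nat.gcd_dvd_right _ _), ← dvd_div_iff hN0 hdM]
  constructor
  · rintro ⟨g, hg⟩
    obtain ⟨r, hr, hr2, hrN, hP⟩ := exists_uni_prime hodd hq3 (show 2 ≤ k by omega)
    have key := su_orderOf_dvd hF (show 2 ≤ k by omega) g ?_ hr hr2 (hg ▸ hrN) hrN hP hM hdM
    · rwa [hg] at key
    rw [hg]
    intro h0
    rw [CharP.cast_eq_zero_iff F p] at h0
    have hl : l ≠ 0 := fun h => by rw [h, pow_zero] at hqp; omega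
    have hpk : p ∣ q ^ k := (hqp ▸ dvd_pow_self p hl).trans (dvd_pow_self q (by omega))
    rw [hN] at h0
    split_ifs at h0
    · exact hp.not_dvd_one ((Nat.dvd_add_right hpk).mp h0)
    · have := Nat.dvd_sub hpk h0
      rw [show q ^ k - (q ^ k - 1) = 1 by omega] at this
      exact hp.not_dvd_one this
  · intro h
    obtain ⟨g, hg⟩ := su_exists_torus_element hF (show 2 ≤ k by omega) hM hdM
    haveI : Finite (Cfsg.PSU (2 * k) F q) := inferInstance
    exact Cfsg.Agent.KnownB.SpecThree.exists_of_dvd g (h.trans hg)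

end Cfsg.Agent.KnownB.HalfTorus
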